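import Mathlib
import Cfsg.Agent.DF.DefsF
import Cfsg.Agent.Chev.ChevBN
import Cfsg.Agent.Chev.StTab
import Cfsg.Agent.S2174
import Cfsg.Agent.S2178
import Cfsg.Agent.S2179

set_option autoImplicit false
set_option linter.unusedSectionVars false

namespace Cfsg.Agent.DF

open Cfsg.Lie Cfsg.Agent.Chev Cfsg.Agent.Chev.Isog Cfsg.Agent.Chev.F4T Cfsg.Agent.Loc.Mss Subgroup

variable {K : Type*} [Field K] [CharP K 2] [Finite K]

namespace ModB

variable (K) in
/-- The subgroup generated by twenty positive root groups. -/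
def M : Subgroup (Γ K) :=
  closure {g : Γ K | ∃ (r : ℕ) (c : K), chevF4.IsPosRoot r ∧ r ∉ [27, 25, 34, 26] ∧
    (g : Matrix chevF4.Idx chevF4.Idx K) = chevF4.x K r c}

theorem M_le_U : M K ≤ chevF4.posUnipotent K :=
  closure_mono fun _ ⟨r, c, h, _, e⟩ => ⟨r, c, h, e⟩

/-- The twenty roots. -/
def l : List chevF4.Rt :=
  (List.finRange chevF4.nroots).filter fun r => decide (chevF4.IsPosRoot r ∧ (r : ℕ) ∉ [27, 25, 34, 26])

theorem l_length : l.length = 20 := by decide +kernel

theorem l_nodup : l.Nodup := (List.nodup_finRange _).filter _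

theorem mem_l {r : chevF4.Rt} : r ∈ l ↔ chevF4.IsPosRoot r ∧ (r : ℕ) ∉ [27, 25, 34, 26] := by
  simp only [l, List.mem_filter, List.mem_finRange, true_and, decide_eq_true_eq]

theorem prod_mem (t : chevF4.Rt → K) : stProd (fun r : chevF4.Rt => chevF4.X K r) l t ∈ M K := by
  refine list_prod_mem fun x hx => ?_
  obtain ⟨r, hr, rfl⟩ := List.mem_map.1 hx
  exact subset_closure ⟨r, t r, (mem_l.1 hr).1, (mem_l.1 hr).2, chevF4.coe_X K _ _⟩

theorem card_M : Nat.card K ^ 20 ≤ Nat.card (M K) := by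
  classical
  let g : ({r // r ∈ l} → K) → chevF4.Rt → K := fun t r => if h : r ∈ l then t ⟨r, h⟩ else 0
  let f : ({r // r ∈ l} → K) → M K := fun t => ⟨_, prod_mem (g t)⟩
  have hf : Function.Injective f := fun t t' e => by
    funext ⟨r, hr⟩
    have := (chevF4.isModel_X K).uniq_pos l_nodup
      (fun r hr => (chevF4.stRoot_pos r).2 (mem_l.1 hr).1) (g t) (g t') (Subtype.mk.inj e) r hr
    simpa only [g, dif_pos hr] using this
  have := Nat.card_le_card_of_injective f hf
  rwa [Nat.card_fun, Nat.card_eq_fintype_card (α := {r // r ∈ l}),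
    Fintype.card_of_subtype l.toFinset (fun _ => List.mem_toFinset), List.toFinset_card_of_nodup l_nodup,
    l_length] at this

end ModB

open ModB

theorem syl_U0 [Finite (chevF4.group K)] : Syl 2 (U0 K) ⊤ :=
  ⟨le_top, chevF4.isPGroup_UG K 2, by rw [relIndex_top_right]; exact chevF4.not_dvd_index_UG K 2⟩

theorem gam_mem_U0 (T : Tw K) {u : chevF4.group K} (hu : u ∈ U0 K) : gam T u ∈ U0 K := by
  change (gam T u : Γ K) ∈ chevF4.posUnipotent K
  rw [coe_gam, ← chevF4.rootBN_U]
  exact T.aut.map_U (by rw [chevF4.rootBN_U]; exact hu)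

theorem card_fix_U0 (T : Tw K) : Nat.card {u : chevF4.group K // u ∈ U0 K ∧ gam T u = u} = Nat.card K ^ 12 := by
  rw [← T.card_U]
  refine Nat.card_congr (Equiv.ofBijective (fun u => ⟨u.1, by rw [chevF4.rootBN_U]; exact u.2.1,
    RootBN.U_le_G (by rw [chevF4.rootBN_U]; exact u.2.1), by rw [← coe_gam, u.2.2]⟩)
    ⟨fun u v e => Subtype.ext (Subtype.ext (Subtype.mk.inj e)), ?_⟩)
  rintro ⟨u, hu, -, e⟩
  rw [chevF4.rootBN_U] at hu
  exact ⟨⟨⟨u, ChevalleyDatum.U_le_group hu⟩, hu, Subtype.ext (by rw [coe_gam]; exact e)⟩, rfl⟩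

theorem big_cent {x : chevF4.group K} (h2 : x * x = 1) (h1 : x ≠ 1) :
    ∃ P : Subgroup (chevF4.group K), IsPGroup 2 P ∧ P ≤ centralizer {x} ∧ Nat.card K ^ 13 ≤ Nat.card P := by
  have := Fintype.ofFinite K
  have ho : orderOf (x : Γ K) = 2 := by
    rw [orderOf_coe]; exact orderOf_eq_prime (by rw [sq, h2]) h1
  obtain ⟨y, hy, hl, h, hh, e⟩ := (S2174.result (F := K)).2.1 x x.2 ho
  have hM : M K ≤ centralizer {y} := by
    have k : ∀ {A : Subgroup (Γ K)}, chevF4.group K ⊓ centralizer {y} = A → M K ≤ A →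
        M K ≤ centralizer {y} := fun e h => (h.trans e.ge).trans inf_le_right
    simp only [List.mem_cons, List.not_mem_nil, or_false] at hl
    rcases hl with hl | hl | hl | hl
    · exact k (S2178.result y (chevF4.X K 44 1) hl (chevF4.coe_X K _ _)).1
        (M_le_U.trans (le_sup_left.trans (le_sup_left.trans le_sup_left)))
    · exact k (S2178.result (chevF4.X K 47 1) y (chevF4.coe_X K _ _) hl).2
        (M_le_U.trans (le_sup_left.trans (le_sup_left.trans le_sup_left)))
    · exact k (S2179.result y (chevF4.X K 39 1 * chevF4.X K 45 1) hl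
        (by rw [Units.val_mul, chevF4.coe_X, chevF4.coe_X])).1 (M_le_U.trans (le_sup_left.trans le_sup_left))
    · exact k (S2179.result (chevF4.X K 47 1 * chevF4.X K 44 1) y
        (by rw [Units.val_mul, chevF4.coe_X, chevF4.coe_X]) hl).2 le_sup_right
  have hG : M K ≤ chevF4.group K := M_le_U.trans ChevalleyDatum.U_le_group
  refine ⟨cj((⟨h, hh⟩ : chevF4.group K)⁻¹, (M K).subgroupOf (chevF4.group K)), pg_cj ?_ _, ?_, ?_⟩
  · exact ((chevF4.isPGroup_posUnipotent K 2).to_le M_le_U).comap_subtype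
  · refine cj_le_iff.2 fun a ha => mem_centralizer_singleton_iff.2 (Subtype.ext ?_)
    have : (a : Γ K) * y = y * a := mem_centralizer_singleton_iff.1 (hM ha)
    rw [← e] at this
    simp only [coe_mul, coe_inv, inv_inv]
    calc _ = h⁻¹ * (a * (h * x * h⁻¹)) * h := by group
      _ = _ := by rw [this]; group
  · rw [card_cj, Nat.card_congr (subgroupOfEquivOfLe hG).toEquiv]
    exact (Nat.pow_le_pow_right Nat.card_pos (by norm_num)).trans card_M

end Cfsg.Agent.DF
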